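import Groth.Agent.SpectralTopology.ConsMorQ
import Groth.Agent.SpectralTopology.ConsOfDescend
import Groth.Agent.SpectralTopology.CanDescend
import Groth.Agent.PicAux.LimitInv
import Groth.Agent.Ega2Proj.RelProjAmple
import Groth.Agent.Ega2Proj.RelAmpleCoprod
import Groth.Agent.S1152
import Groth.Agent.S2332
import Groth.Agent.S4846

/-!
The set of points of the base over which a module is relatively ample on the fibres
(EGA IV 9.6.2): ind-constructibility, by descent to Noetherian models and spreading out from the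
generic point.
-/

set_option autoImplicit false
set_option backward.isDefEq.respectTransparency false
set_option backward.isDefEq.respectTransparency.types false
set_option linter.style.haveILetI false

open AlgebraicGeometry CategoryTheory CategoryTheory.Limits Topology

universe u

namespace Groth.ConsAmple

open Groth.SpectralTopology Groth.Ega2Proj

variable {X Y S X' Y' S' : Scheme.{u}}

/-- Relative ampleness is stable under base change. -/
theorem isRelAmple_of_isPullback {f : X ⟶ Y} {f' : X' ⟶ Y'} {eX : X' ⟶ X} {eY : Y' ⟶ Y}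
    (sq : IsPullback eX f' f eY) {L : X.Modules} (hL : RelAmple.IsRelAmple f L) :
    RelAmple.IsRelAmple f' ((Scheme.Modules.pullback eX).obj L) := by
  haveI : QuasiCompact f := hL.1
  have h := isRelAmple_pullback_iso sq.isoPullback (Groth.Agent.S2332.result f eY L hL)
  rw [sq.isoPullback_hom_snd] at h
  exact isRelAmple_of_iso ((Scheme.Modules.pullbackComp _ _).app L ≪≫
    (Scheme.Modules.pullbackCongr sq.isoPullback_hom_fst).app L) h

/-- Relative ampleness descends along quasi-compact flat surjective base changes. -/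
theorem isRelAmple_of_isPullback_fpqc {f : X ⟶ Y} {f' : X' ⟶ Y'} {eX : X' ⟶ X} {eY : Y' ⟶ Y}
    [QuasiCompact eY] [Flat eY] [Surjective eY] (sq : IsPullback eX f' f eY) {L : X.Modules}
    (hL : PicF.IsInvertible L) (h : RelAmple.IsRelAmple f' ((Scheme.Modules.pullback eX).obj L)) :
    RelAmple.IsRelAmple f L := by
  refine Groth.Agent.S1152.result f L hL eY ?_
  have h2 := isRelAmple_pullback_iso sq.isoPullback.symm h
  rw [Iso.symm_hom, sq.isoPullback_inv_snd] at h2
  exact isRelAmple_of_iso ((Scheme.Modules.pullbackComp _ _).app L ≪≫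
    (Scheme.Modules.pullbackCongr sq.isoPullback_inv_fst).app L) h2

/-- The restriction of a module to a fibre. -/
noncomputable abbrev fibMod (u : X ⟶ S) (L : X.Modules) (s : S) : (u.fiber s).Modules :=
  (Scheme.Modules.pullback (u.fiberι s)).obj L

/-- The points of the base over which `L` is ample relative to the morphism of fibres. -/
def locus (f : X ⟶ Y) (g : Y ⟶ S) (L : X.Modules) : Set S :=
  {s | RelAmple.IsRelAmple (MoreMor.fiberMap f g s) (fibMod (f ≫ g) L s)}

theorem locus_congr (f : X ⟶ Y) (g : Y ⟶ S) {L M : X.Modules} (e : L ≅ M) :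
    locus f g L = locus f g M :=
  Set.ext fun _ => ⟨isRelAmple_of_iso ((Scheme.Modules.pullback _).mapIso e),
    isRelAmple_of_iso ((Scheme.Modules.pullback _).mapIso e.symm)⟩

/-- The locus commutes with base change. -/
theorem locus_preimage {f : X ⟶ Y} {g : Y ⟶ S} {f' : X' ⟶ Y'} {g' : Y' ⟶ S'} {h : S' ⟶ S}
    {qX : X' ⟶ X} {qY : Y' ⟶ Y} (hX : IsPullback qX f' f qY) (hY : IsPullback qY g' g h)
    {L : X.Modules} (hL : PicF.IsInvertible L) :
    locus f' g' ((Scheme.Modules.pullback qX).obj L) = h ⁻¹' locus f g L := by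
  ext s'
  have sqXY := hX.paste_vert hY
  have hw : fiberBC sqXY s' ≫ MoreMor.fiberMap f g (h s') =
      MoreMor.fiberMap f' g' s' ≫ fiberBC hY s' := by
    apply (isPullback_fiber g (h s')).hom_ext
    · rw [Category.assoc, fiberMap_fiberι, reassoc_of% (fiberBC_ι sqXY s'), hX.w, Category.assoc,
        fiberBC_ι hY s', reassoc_of% (fiberMap_fiberι f' g' s')]
    · rw [Category.assoc, fiberMap_toSpec, (isPullback_fiberBC sqXY s').w, Category.assoc,
        (isPullback_fiberBC hY s').w, reassoc_of% (fiberMap_toSpec f' g' s')]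
  have sqX : IsPullback (fiberBC sqXY s') (MoreMor.fiberMap f' g' s')
      (MoreMor.fiberMap f g (h s')) (fiberBC hY s') := by
    refine IsPullback.of_bot ?_ hw (isPullback_fiberBC hY s')
    rw [fiberMap_toSpec, fiberMap_toSpec]
    exact isPullback_fiberBC sqXY s'
  have hh := fpqc_of_point (Spec.map (h.residueFieldMap s'))
  haveI : Surjective (fiberBC hY s') :=
    MorphismProperty.of_isPullback (isPullback_fiberBC hY s').flip hh.1.1
  haveI : Flat (fiberBC hY s') :=
    MorphismProperty.of_isPullback (isPullback_fiberBC hY s').flip hh.1.2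
  haveI : QuasiCompact (fiberBC hY s') :=
    MorphismProperty.of_isPullback (isPullback_fiberBC hY s').flip hh.2
  let e : fibMod (f' ≫ g') ((Scheme.Modules.pullback qX).obj L) s' ≅
      (Scheme.Modules.pullback (fiberBC sqXY s')).obj (fibMod (f ≫ g) L (h s')) :=
    (Scheme.Modules.pullbackComp ((f' ≫ g').fiberι s') qX ≪≫
      Scheme.Modules.pullbackCongr (fiberBC_ι sqXY s').symm ≪≫
      (Scheme.Modules.pullbackComp (fiberBC sqXY s') ((f ≫ g).fiberι (h s'))).symm).app L
  exact ⟨fun hs => isRelAmple_of_isPullback_fpqc sqX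
      (Groth.PicAux.isInvertible_pullback _ hL) (isRelAmple_of_iso e hs),
    fun hs => isRelAmple_of_iso e.symm (isRelAmple_of_isPullback sqX hs)⟩

/-- Ampleness on the generic fibre spreads out. -/
theorem interior_locus_nonempty [IsIntegral S] [AlgebraicGeometry.IsNoetherian S] (f : X ⟶ Y)
    (g : Y ⟶ S) [LocallyOfFiniteType g] [QuasiCompact g] [LocallyOfFiniteType (f ≫ g)]
    [QuasiCompact (f ≫ g)] {L : X.Modules} (hL : PicF.IsInvertible L)
    (hgen : genericPoint S ∈ locus f g L) : (interior (locus f g L)).Nonempty := by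
  let η := genericPoint S
  let m := S.fromSpecResidueField η
  obtain ⟨_, ⟨V, hV, rfl⟩, hηV, -⟩ := S.isBasis_affineOpens.exists_subset_of_mem_open
    (Set.mem_univ η) isOpen_univ
  have hm : Set.range m ⊆ Set.range hV.fromSpec := by
    rw [hV.range_fromSpec, Scheme.range_fromSpecResidueField, Set.singleton_subset_iff]
    exact hηV
  let R : CommRingCat.{u} := Γ(S, V)
  let K : CommRingCat.{u} := S.residueField η
  obtain ⟨ψ, hψ⟩ := Spec.map_surjective (IsOpenImmersion.lift hV.fromSpec m hm)
  letI : Algebra R K := ψ.hom.toAlgebra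
  have : IsNoetherianRing R := IsLocallyNoetherian.component_noetherian ⟨V, hV⟩
  let D := algSchemes R K
  let c := algCone R K
  let t : ∀ s, D.obj s ⟶ S := fun s ↦ algToBase R K s ≫ hV.fromSpec
  have ht (s) : c.π.app s ≫ t s = m := by
    rw [← Category.assoc, algCone_π_toBase]
    have : Spec.map (CommRingCat.ofHom (algebraMap R K)) = Spec.map ψ := rfl
    rw [this, hψ, IsOpenImmersion.lift_fac]
  let s₀ : (AlgSub R K)ᵒᵖ := Opposite.op ⟨⊥, Subalgebra.fg_bot⟩
  have : QuasiCompact (t s₀) := quasiCompact_of_compactSpace _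
  let g₀ := pullback.snd g (t s₀)
  let f₀ := pullback.snd f (pullback.fst g (t s₀))
  have sY₀ := IsPullback.of_hasPullback g (t s₀)
  have sX₀ := IsPullback.of_hasPullback f (pullback.fst g (t s₀))
  have sη := isPullback_fiber g η
  let qY : g.fiber η ⟶ pullback g (t s₀) :=
    pullback.lift (g.fiberι η) (g.fiberToSpecResidueField η ≫ c.π.app s₀)
      (by rw [Category.assoc, ht]; exact sη.w)
  have hY : IsPullback qY (g.fiberToSpecResidueField η) g₀ (c.π.app s₀) := by
    refine IsPullback.of_right ?_ (pullback.lift_snd _ _ _) sY₀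
    rw [pullback.lift_fst, ht]; exact sη
  have sηX := isPullback_fiberMap f g η
  let qX : (f ≫ g).fiber η ⟶ pullback f (pullback.fst g (t s₀)) :=
    pullback.lift ((f ≫ g).fiberι η) (MoreMor.fiberMap f g η ≫ qY)
      (by rw [Category.assoc, pullback.lift_fst]; exact sηX.w)
  have hX : IsPullback qX (MoreMor.fiberMap f g η) f₀ qY := by
    refine IsPullback.of_right ?_ (pullback.lift_snd _ _ _) sX₀
    rw [pullback.lift_fst, pullback.lift_fst]; exact sηX
  have hqX : qX ≫ pullback.fst f (pullback.fst g (t s₀)) = (f ≫ g).fiberι η := pullback.lift_fst _ _ _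
  have : LocallyOfFiniteType f := locallyOfFiniteType_of_comp f g
  have : IsLocallyNoetherian Y := LocallyOfFiniteType.isLocallyNoetherian g
  have : CompactSpace Y := QuasiCompact.compactSpace_of_compactSpace g
  have : CompactSpace X := QuasiCompact.compactSpace_of_compactSpace (f ≫ g)
  have : IsLocallyNoetherian X := LocallyOfFiniteType.isLocallyNoetherian f
  have : QuasiCompact f := quasiCompact_of_compactSpace f
  have : QuasiSeparated f := quasiSeparated_of_quasiSeparatedSpace f
  have : QuasiSeparated g := quasiSeparated_of_quasiSeparatedSpace g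
  let L₀ := (Scheme.Modules.pullback (pullback.fst f (pullback.fst g (t s₀)))).obj L
  have hL₀ : PicF.IsInvertible L₀ := Groth.PicAux.isInvertible_pullback _ hL
  have hA : RelAmple.IsRelAmple (MoreMor.fiberMap f g η) ((Scheme.Modules.pullback qX).obj L₀) :=
    isRelAmple_of_iso ((Scheme.Modules.pullbackCongr hqX.symm).app L ≪≫
      ((Scheme.Modules.pullbackComp qX _).app L).symm) hgen
  obtain ⟨k, φ, Xk, Yk, fk, gk, pY, pX, sYk, sXk, hk⟩ :=
    (Groth.Agent.S4846.result D c (isLimitAlgCone R K) s₀ f₀ g₀ L₀ hL₀ _ _ qY qX hY hX).1 hA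
  have htk : D.map φ ≫ t s₀ = t k :=
    (Category.assoc _ _ _).symm.trans (congrArg (· ≫ hV.fromSpec) (algSchemes_map_toBase R K φ))
  have syk : IsPullback (pY ≫ pullback.fst g (t s₀)) gk g (t k) := by
    rw [← htk]; exact sYk.paste_horiz sY₀
  have sxk : IsPullback (pX ≫ pullback.fst f (pullback.fst g (t s₀))) fk f
      (pY ≫ pullback.fst g (t s₀)) := sXk.paste_horiz sX₀
  have hsub : Set.range (t k) ⊆ locus f g L := by
    rintro _ ⟨b, rfl⟩
    have e := locus_preimage sxk syk hL
    have hb : b ∈ locus fk gk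
        ((Scheme.Modules.pullback (pX ≫ pullback.fst f (pullback.fst g (t s₀)))).obj L) :=
      isRelAmple_of_iso ((Scheme.Modules.pullback _).mapIso
          ((Scheme.Modules.pullbackComp pX _).app L))
        (isRelAmple_of_isPullback (isPullback_fiberMap fk gk b) hk)
    exact e.subset hb
  have : QuasiCompact (t k) := quasiCompact_of_compactSpace _
  have hlfp : LocallyOfFinitePresentation (t k) := inferInstance
  have hC : IsConstructible (Set.range (t k)) := by
    rw [← Set.image_univ]; exact (t k).isConstructible_image IsConstructible.univ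
  have hη : η ∈ Set.range (t k) := by
    obtain ⟨x⟩ := (inferInstance : Nonempty (Spec K))
    refine ⟨c.π.app k x, ?_⟩
    rw [← Scheme.Hom.comp_apply, ht]
    exact Set.mem_singleton_iff.1 ((Scheme.range_fromSpecResidueField η).subset ⟨x, rfl⟩)
  exact ⟨_, interior_mono hsub (genericPoint_mem_interior hC hη)⟩

/-- Ind-constructibility over a Noetherian base. -/
theorem exists_constructible_locus [AlgebraicGeometry.IsNoetherian S] (f : X ⟶ Y) (g : Y ⟶ S)
    [LocallyOfFiniteType g] [QuasiCompact g] [LocallyOfFiniteType (f ≫ g)]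
    [QuasiCompact (f ≫ g)] {L : X.Modules} (hL : PicF.IsInvertible L) {s : S}
    (hs : s ∈ locus f g L) : ∃ C : Set S, IsConstructible C ∧ s ∈ C ∧ C ⊆ locus f g L := by
  refine exists_constructible_of_forall_integral (fun Z i _ _ _ hg ↦ ?_) hs
  have sY := IsPullback.of_hasPullback g i
  have sX := IsPullback.of_hasPullback f (pullback.fst g i)
  have sXY := sX.paste_vert sY
  have : LocallyOfFiniteType (pullback.snd f (pullback.fst g i) ≫ pullback.snd g i) :=
    MorphismProperty.of_isPullback sXY inferInstance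
  have : QuasiCompact (pullback.snd f (pullback.fst g i) ≫ pullback.snd g i) :=
    MorphismProperty.of_isPullback sXY inferInstance
  rw [← locus_preimage sX sY hL]
  refine interior_locus_nonempty _ _ (Groth.PicAux.isInvertible_pullback _ hL) ?_
  rw [locus_preimage sX sY hL]
  exact hg

/-- Over an affine scheme a pair of finitely presented schemes with an invertible module has a
Noetherian model. -/
theorem exists_model {A : CommRingCat.{u}} (f : X ⟶ Y) (g : Y ⟶ (fgCone A).pt)
    [LocallyOfFinitePresentation g] [QuasiCompact g] [QuasiSeparated g]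
    [LocallyOfFinitePresentation (f ≫ g)] [QuasiCompact (f ≫ g)] [QuasiSeparated (f ≫ g)]
    {L : X.Modules} (hL : PicF.IsInvertible L) :
    ∃ (M : MorModel f g) (L₀ : M.X₀.Modules), PicF.IsInvertible L₀ ∧
      Nonempty ((Scheme.Modules.pullback M.qX).obj L₀ ≅ L) := by
  obtain ⟨i, X₁, Y₁, u₁, g₁, qX, qY, _, _, _, _, _, _, hX, hY⟩ :=
    exists_models (canDescend A) (f ≫ g) g
  obtain ⟨j, φ, Xj, Yj, fj, gj, pX, pY, rX, rY, sY, sX, rsX, rsY⟩ :=
    exists_descend_hom (fgSchemes A) (fgCone A) (isLimitFgCone A) u₁ g₁ f g qX qY hX hY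
  have : LocallyOfFinitePresentation gj := MorphismProperty.of_isPullback sY inferInstance
  have : QuasiCompact gj := MorphismProperty.of_isPullback sY inferInstance
  have : LocallyOfFinitePresentation (fj ≫ gj) := MorphismProperty.of_isPullback sX inferInstance
  have : QuasiCompact (fj ≫ gj) := MorphismProperty.of_isPullback sX inferInstance
  have : QuasiSeparated (fj ≫ gj) := MorphismProperty.of_isPullback sX inferInstance
  let D' := Groth.Limits.pullbackDiagram (fgSchemes A) j (fj ≫ gj)
  let c' := Groth.Limits.pullbackCone (fgSchemes A) j (fj ≫ gj) (fgCone A)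
  have : ∀ k : Over j, CompactSpace (D'.obj k) := fun k ↦
    QuasiCompact.compactSpace_of_compactSpace (pullback.fst ((fgSchemes A).map k.hom) (fj ≫ gj))
  have : ∀ k : Over j, QuasiSeparatedSpace (D'.obj k) := fun k ↦
    quasiSeparatedSpace_of_quasiSeparated (pullback.fst ((fgSchemes A).map k.hom) (fj ≫ gj))
  let e : X ≅ c'.pt := (rsX.paste_vert rsY).flip.isoPullback
  obtain ⟨k, -, L₀, hL₀, ⟨α⟩⟩ := Groth.PicAux.LimitInv.exists_stage_invertible (D := D') (c := c')
    (Groth.Limits.isLimitPullbackCone (fgSchemes A) j (fj ≫ gj) (isLimitFgCone A)) (Over.mk (𝟙 j))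
    (Groth.PicAux.isInvertible_pullback e.inv hL)
  let h : (fgSchemes A).obj k.left ⟶ (fgSchemes A).obj j := (fgSchemes A).map k.hom
  let g₂ : pullback h gj ⟶ (fgSchemes A).obj k.left := pullback.fst h gj
  let f₂ : pullback h (fj ≫ gj) ⟶ pullback h gj :=
    pullback.lift (pullback.fst h (fj ≫ gj)) (pullback.snd h (fj ≫ gj) ≫ fj)
      (by rw [Category.assoc]; exact pullback.condition)
  have hfg : f₂ ≫ g₂ = pullback.fst h (fj ≫ gj) := pullback.lift_fst _ _ _
  have sYk : IsPullback (pullback.snd h gj) g₂ gj h := (IsPullback.of_hasPullback h gj).flip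
  have sXk : IsPullback (pullback.snd h (fj ≫ gj)) (pullback.fst h (fj ≫ gj)) (fj ≫ gj) h :=
    (IsPullback.of_hasPullback h (fj ≫ gj)).flip
  have hπ : (fgCone A).π.app k.left ≫ h = (fgCone A).π.app j := (fgCone A).w k.hom
  let rY₂ : Y ⟶ pullback h gj :=
    pullback.lift (g ≫ (fgCone A).π.app k.left) rY (by rw [Category.assoc, hπ, rsY.w])
  let rX₂ : X ⟶ pullback h (fj ≫ gj) := e.hom ≫ c'.π.app k
  have hX1 : rX₂ ≫ pullback.fst h (fj ≫ gj) = (f ≫ g) ≫ (fgCone A).π.app k.left := by
    refine (Category.assoc _ _ _).trans ?_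
    refine (congrArg (e.hom ≫ ·) (pullback.lift_fst _ _ _)).trans ?_
    refine (Category.assoc _ _ _).symm.trans ?_
    exact congrArg (· ≫ (fgCone A).π.app k.left) (rsX.paste_vert rsY).flip.isoPullback_hom_fst
  have hX2 : rX₂ ≫ pullback.snd h (fj ≫ gj) = rX := by
    refine (Category.assoc _ _ _).trans ?_
    refine (congrArg (e.hom ≫ ·) (pullback.lift_snd _ _ _)).trans ?_
    exact (congrArg (e.hom ≫ ·) (Category.comp_id _)).trans
      (rsX.paste_vert rsY).flip.isoPullback_hom_snd
  have rsY₂ : IsPullback rY₂ g g₂ ((fgCone A).π.app k.left) :=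
    IsPullback.of_right (by rw [pullback.lift_snd, hπ]; exact rsY) (pullback.lift_fst _ _ _) sYk
  have rsXY₂ : IsPullback rX₂ (f ≫ g) (pullback.fst h (fj ≫ gj)) ((fgCone A).π.app k.left) :=
    IsPullback.of_right (by rw [hX2, hπ]; exact rsX.paste_vert rsY) hX1 sXk
  have rsX₂ : IsPullback rX₂ f f₂ rY₂ := by
    refine IsPullback.of_bot (by rw [hfg]; exact rsXY₂) ?_ rsY₂
    apply pullback.hom_ext
    · rw [Category.assoc, hfg, hX1, Category.assoc, Category.assoc, pullback.lift_fst]
    · exact (Category.assoc rX₂ f₂ _).trans ((congrArg (rX₂ ≫ ·) (pullback.lift_snd _ _ _)).trans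
        ((Category.assoc rX₂ _ fj).symm.trans ((congrArg (· ≫ fj) hX2).trans (rsX.w.trans
          ((congrArg (f ≫ ·) (pullback.lift_snd _ _ _)).symm.trans (Category.assoc _ _ _).symm)))))
  have : LocallyOfFinitePresentation (f₂ ≫ g₂) := by
    rw [hfg]; exact MorphismProperty.pullback_fst _ _ inferInstance
  have : QuasiCompact (f₂ ≫ g₂) := by
    rw [hfg]; exact MorphismProperty.pullback_fst _ _ inferInstance
  refine ⟨{ S₀ := _, h := (fgCone A).π.app k.left, X₀ := _, Y₀ := _, f₀ := f₂, g₀ := g₂,
            qX := rX₂, qY := rY₂, hX := rsX₂, hY := rsY₂ }, L₀, hL₀, ⟨?_⟩⟩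
  exact ((Scheme.Modules.pullbackComp e.hom (c'.π.app k)).app L₀).symm ≪≫
    (Scheme.Modules.pullback e.hom).mapIso α ≪≫ (Scheme.Modules.pullbackComp _ _).app L ≪≫
    (Scheme.Modules.pullbackCongr e.hom_inv_id).app L ≪≫ (Scheme.Modules.pullbackId X).app L

/-- The ampleness locus is ind-constructible. -/
theorem isIndConstructible_locus (f : X ⟶ Y) (g : Y ⟶ S)
    [LocallyOfFinitePresentation g] [QuasiCompact g] [QuasiSeparated g]
    [LocallyOfFinitePresentation (f ≫ g)] [QuasiCompact (f ≫ g)] [QuasiSeparated (f ≫ g)]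
    {L : X.Modules} (hL : PicF.IsInvertible L) : ProCons.IsIndConstructible (locus f g L) := by
  refine isIndConstructible_of_affines fun V hV x hx ↦ ?_
  rw [preimage_ι_eq hV, ← locus_preimage
    (IsPullback.of_hasPullback f (pullback.fst g (affineToBase hV)))
    (IsPullback.of_hasPullback g (affineToBase hV)) hL] at hx ⊢
  obtain ⟨h1, h2, h3⟩ := fp_baseChange_comp f g (affineToBase hV)
  obtain ⟨M, L₀, hL₀, ⟨e⟩⟩ := exists_model (pullback.snd f (pullback.fst g (affineToBase hV)))
    (pullback.snd g (affineToBase hV))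
    (Groth.PicAux.isInvertible_pullback (pullback.fst f (pullback.fst g (affineToBase hV))) hL)
  have := M.noetherian; have := M.lftg; have := M.qcg; have := M.lftfg; have := M.qcfg
  rw [← locus_congr _ _ e, locus_preimage M.hX M.hY hL₀] at hx ⊢
  obtain ⟨C, hC, hxC, hCE⟩ := exists_constructible_locus M.f₀ M.g₀ hL₀ hx
  exact ⟨_, (affineIso hV).hom.isConstructible_preimage (M.h.isConstructible_preimage hC), hxC,
    Set.preimage_mono (Set.preimage_mono hCE)⟩

end Groth.ConsAmple
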