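import Groth.Agent.ConsAmple.QProj
import Groth.Agent.SpectralTopology.SpreadProper
import Groth.Agent.AmpleFibre.Nhd
import Groth.Agent.AmpleFibre.General

/-!
The ampleness locus on the fibres for a proper morphism (EGA IV 9.6.4): openness of the fibrewise
ample points of the source base, constructibility.
-/

set_option autoImplicit false
set_option backward.isDefEq.respectTransparency false
set_option backward.isDefEq.respectTransparency.types false
set_option linter.style.haveILetI false

open AlgebraicGeometry CategoryTheory CategoryTheory.Limits Topology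

universe u

namespace Groth.ConsAmple

open Groth.SpectralTopology Groth.Ega2Proj

variable {X Y S X' Y' : Scheme.{u}}

/-- Over an affine scheme relative ampleness gives ampleness. -/
theorem isAmple_of_isRelAmple_affine [IsAffine Y] {f : X ⟶ Y} {L : X.Modules}
    (h : RelAmple.IsRelAmple f L) : CohB1.IsAmple L := by
  have : QuasiCompact f := h.1
  have : CompactSpace X := QuasiCompact.compactSpace_of_compactSpace f
  have hA := isAmple_of_isRelAmple h ⟨⊤, isAffineOpen_top Y⟩ (𝟙 X) (fun x _ => trivial)
  exact isAmple_of_iso (restrictIsoPullback (𝟙 X) L ≪≫ (Scheme.Modules.pullbackId X).app L) hA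

/-- Over an affine scheme ampleness gives relative ampleness. -/
theorem isRelAmple_of_isAmple_affine [IsAffine Y] (f : X ⟶ Y) [QuasiCompact f] {L : X.Modules}
    (h : CohB1.IsAmple L) : RelAmple.IsRelAmple f L := by
  refine isRelAmple_of_local f fun x => ⟨⊤, X, 𝟙 X, inferInstance, trivial, fun z _ => ⟨z, rfl⟩, ?_⟩
  exact isAmple_of_iso ((Scheme.Modules.pullbackId X).app L).symm
    h |> isAmple_of_iso (restrictIsoPullback (𝟙 X) L).symm

/-- The points of the target over which `L` is ample on the fibre. -/
def ampleSet (f : X ⟶ Y) (L : X.Modules) : Set Y :=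
  {y | RelAmple.IsRelAmple (f.fiberToSpecResidueField y) (fibMod f L y)}

/-- The fibrewise ample points commute with base change. -/
theorem ampleSet_preimage {f : X ⟶ Y} {f' : X' ⟶ Y'} {qX : X' ⟶ X} {qY : Y' ⟶ Y}
    (sq : IsPullback qX f' f qY) {L : X.Modules} (hL : PicF.IsInvertible L) :
    ampleSet f' ((Scheme.Modules.pullback qX).obj L) = qY ⁻¹' ampleSet f L := by
  ext y
  have hh := fpqc_of_point (Spec.map (qY.residueFieldMap y))
  haveI := hh.1.1; haveI := hh.1.2; haveI := hh.2
  let e : fibMod f' ((Scheme.Modules.pullback qX).obj L) y ≅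
      (Scheme.Modules.pullback (fiberBC sq y)).obj (fibMod f L (qY y)) :=
    (Scheme.Modules.pullbackComp (f'.fiberι y) qX ≪≫
      Scheme.Modules.pullbackCongr (fiberBC_ι sq y).symm ≪≫
      (Scheme.Modules.pullbackComp (fiberBC sq y) (f.fiberι (qY y))).symm).app L
  rw [Set.mem_preimage, ampleSet, ampleSet, Set.mem_ofPred_eq, Set.mem_ofPred_eq]
  constructor
  · intro hs
    exact isRelAmple_of_isPullback_fpqc (isPullback_fiberBC sq y)
      (Groth.PicAux.isInvertible_pullback _ hL) (isRelAmple_of_iso e hs)
  · intro hs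
    exact isRelAmple_of_iso e.symm (isRelAmple_of_isPullback (isPullback_fiberBC sq y) hs)

theorem isAmple_fibre_of_mem {f : X ⟶ Y} {L : X.Modules} {y : Y} (h : y ∈ ampleSet f L) :
    CohB1.IsAmple ((Scheme.Modules.pullback (f.fiberι y)).obj L) :=
  isAmple_of_isRelAmple_affine h

/-- For a proper morphism the fibrewise ample points form an open set. -/
theorem isOpen_ampleSet (f : X ⟶ Y) [IsProper f] {L : X.Modules} (hL : PicF.IsInvertible L) :
    IsOpen (ampleSet f L) := by
  refine isOpen_iff_forall_mem_open.2 fun y hy => ?_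
  obtain ⟨V, hV, hyV, hA⟩ :=
    Groth.AmpleFibre.exists_nhd_isAmple_proper f y hL (isAmple_fibre_of_mem hy)
  refine ⟨V, fun z hz => ?_, V.2, hyV⟩
  have : IsAffine V.toScheme := hV
  have sq := (isPullback_morphismRestrict f V).flip
  let L' := (Scheme.Modules.pullback (f ⁻¹ᵁ V).ι).obj L
  have h0 : CohB1.IsAmple L' := isAmple_of_iso (restrictIsoPullback _ L) hA
  have h1 : RelAmple.IsRelAmple (f ∣_ V) L' := isRelAmple_of_isAmple_affine (f ∣_ V) h0
  let z' : V.toScheme := ⟨z, hz⟩
  have h2 : z' ∈ ampleSet (f ∣_ V) L' := by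
    rw [ampleSet, Set.mem_ofPred_eq]
    exact isRelAmple_of_isPullback (isPullback_fiber (f ∣_ V) z') h1
  have h3 : ampleSet (f ∣_ V) L' = V.ι ⁻¹' ampleSet f L := ampleSet_preimage sq hL
  rw [h3, Set.mem_preimage] at h2
  exact h2

/-- For a proper morphism relative ampleness is fibrewise. -/
theorem isRelAmple_iff_ampleSet_eq_univ (f : X ⟶ Y) [IsProper f] {L : X.Modules}
    (hL : PicF.IsInvertible L) : RelAmple.IsRelAmple f L ↔ ampleSet f L = Set.univ := by
  refine ⟨fun h => Set.eq_univ_of_forall fun y => isRelAmple_of_isPullback (isPullback_fiber f y) h,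
    fun h => isRelAmple_of_local f fun x => ?_⟩
  obtain ⟨V, hV, hxV, hA⟩ := Groth.AmpleFibre.exists_nhd_isAmple_proper f (f x) hL
    (isAmple_fibre_of_mem (h.ge (Set.mem_univ (f x))))
  exact ⟨V, _, (f ⁻¹ᵁ V).ι, inferInstance, hxV, (Scheme.Opens.range_ι _).ge, hA⟩

/-- Constructibility over a Noetherian base. -/
theorem isConstructible_locus_of_isProper [AlgebraicGeometry.IsNoetherian S] (f : X ⟶ Y)
    (g : Y ⟶ S) [LocallyOfFiniteType g] [QuasiCompact g] [IsProper f] {L : X.Modules}
    (hL : PicF.IsInvertible L) : IsConstructible (locus f g L) := by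
  have : IsLocallyNoetherian Y := LocallyOfFiniteType.isLocallyNoetherian g
  have : CompactSpace Y := QuasiCompact.compactSpace_of_compactSpace g
  have : AlgebraicGeometry.IsNoetherian Y := {}
  have he : locus f g L = (g '' (ampleSet f L)ᶜ)ᶜ := by
    ext s
    haveI : IsProper (MoreMor.fiberMap f g s) :=
      MorphismProperty.of_isPullback (isPullback_fiberMap f g s) ‹IsProper f›
    have hp := ampleSet_preimage (isPullback_fiberMap f g s) hL
    change RelAmple.IsRelAmple (MoreMor.fiberMap f g s) (fibMod (f ≫ g) L s) ↔ _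
    rw [isRelAmple_iff_ampleSet_eq_univ _ (Groth.PicAux.isInvertible_pullback _ hL), hp,
      Set.preimage_eq_univ_iff, show Set.range (g.fiberι s) = g ⁻¹' {s} from g.range_fiberι s]
    constructor
    · rintro h ⟨y, hy, rfl⟩
      exact hy (h rfl)
    · intro h y hy
      by_contra hy'
      exact h ⟨y, hy', hy⟩
  rw [he]
  have : QuasiSeparated g := quasiSeparated_of_quasiSeparatedSpace g
  have : LocallyOfFinitePresentation g := inferInstance
  have hr : IsRetrocompact (ampleSet f L) := fun U _ _ =>
    TopologicalSpace.NoetherianSpace.isCompact _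
  exact (g.isConstructible_image (hr.isConstructible (isOpen_ampleSet f hL)).compl).compl

/-- Over an affine scheme a proper morphism of finitely presented schemes with an invertible module
has a Noetherian model with proper morphism. -/
theorem exists_model_proper {A : CommRingCat.{u}} (f : X ⟶ Y) (g : Y ⟶ (fgCone A).pt)
    [LocallyOfFinitePresentation g] [QuasiCompact g] [QuasiSeparated g]
    [LocallyOfFinitePresentation (f ≫ g)] [QuasiCompact (f ≫ g)] [QuasiSeparated (f ≫ g)]
    [IsProper f] {L : X.Modules} (hL : PicF.IsInvertible L) :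
    ∃ (M : MorModel f g) (L₀ : M.X₀.Modules), IsProper M.f₀ ∧ PicF.IsInvertible L₀ ∧
      Nonempty ((Scheme.Modules.pullback M.qX).obj L₀ ≅ L) := by
  obtain ⟨i, X₁, Y₁, u₁, g₁, qX, qY, _, _, _, _, _, _, hX, hY⟩ :=
    exists_models (canDescend A) (f ≫ g) g
  obtain ⟨j, φ, Xj, Yj, fj, gj, pX, pY, rX, rY, sY, sX, rsX, rsY⟩ :=
    exists_descend_hom (fgSchemes A) (fgCone A) (isLimitFgCone A) u₁ g₁ f g qX qY hX hY
  have : LocallyOfFinitePresentation gj := MorphismProperty.of_isPullback sY inferInstance
  have : QuasiCompact gj := MorphismProperty.of_isPullback sY inferInstance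
  have : QuasiSeparated gj := MorphismProperty.of_isPullback sY inferInstance
  have : LocallyOfFinitePresentation (fj ≫ gj) := MorphismProperty.of_isPullback sX inferInstance
  have : QuasiCompact (fj ≫ gj) := MorphismProperty.of_isPullback sX inferInstance
  have : QuasiSeparated (fj ≫ gj) := MorphismProperty.of_isPullback sX inferInstance
  have : ∀ i, IsLocallyNoetherian ((fgSchemes A).obj i) := fun i => inferInstance
  have : ∀ i, CompactSpace ((fgSchemes A).obj i) := fun i => inferInstance
  have : ∀ i, QuasiSeparatedSpace ((fgSchemes A).obj i) := fun i => inferInstance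
  have : IsLocallyNoetherian Yj := LocallyOfFiniteType.isLocallyNoetherian gj
  have : LocallyOfFiniteType fj := locallyOfFiniteType_of_comp fj gj
  have : IsLocallyNoetherian Xj := LocallyOfFiniteType.isLocallyNoetherian fj
  have : CompactSpace Xj := QuasiCompact.compactSpace_of_compactSpace (fj ≫ gj)
  have : QuasiCompact fj := QuasiCompact.of_comp fj gj
  have : QuasiSeparated fj := quasiSeparated_of_quasiSeparatedSpace fj
  obtain ⟨k, ψ, hk⟩ := spreads_isProper (fgSchemes A) (fgCone A) (isLimitFgCone A) fj gj f g rY rX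
    rsY rsX ‹IsProper f›
  let h : (fgSchemes A).obj k ⟶ (fgSchemes A).obj j := (fgSchemes A).map ψ
  let g₂ : pullback h gj ⟶ (fgSchemes A).obj k := pullback.fst h gj
  let f₂ := pullback.snd fj (pullback.snd h gj)
  have sYk : IsPullback (pullback.snd h gj) g₂ gj h := (IsPullback.of_hasPullback h gj).flip
  have sXk : IsPullback (pullback.fst fj (pullback.snd h gj)) f₂ fj (pullback.snd h gj) :=
    IsPullback.of_hasPullback _ _
  have hπ : (fgCone A).π.app k ≫ h = (fgCone A).π.app j := (fgCone A).w ψ
  let rY₂ : Y ⟶ pullback h gj :=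
    pullback.lift (g ≫ (fgCone A).π.app k) rY (by rw [Category.assoc, hπ, rsY.w])
  let rX₂ : X ⟶ pullback fj (pullback.snd h gj) :=
    pullback.lift rX (f ≫ rY₂) (by rw [Category.assoc, pullback.lift_snd, rsX.w])
  have rsY₂ : IsPullback rY₂ g g₂ ((fgCone A).π.app k) :=
    IsPullback.of_right (by rw [pullback.lift_snd, hπ]; exact rsY) (pullback.lift_fst _ _ _) sYk
  have rsX₂ : IsPullback rX₂ f f₂ rY₂ :=
    IsPullback.of_right (by rw [pullback.lift_fst, pullback.lift_snd]; exact rsX)
      (pullback.lift_snd _ _ _) sXk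
  have : LocallyOfFinitePresentation g₂ := MorphismProperty.of_isPullback sYk inferInstance
  have : QuasiCompact g₂ := MorphismProperty.of_isPullback sYk inferInstance
  have : QuasiSeparated g₂ := MorphismProperty.of_isPullback sYk inferInstance
  have : LocallyOfFinitePresentation (f₂ ≫ g₂) :=
    MorphismProperty.of_isPullback (sXk.paste_vert sYk) inferInstance
  have : QuasiCompact (f₂ ≫ g₂) :=
    MorphismProperty.of_isPullback (sXk.paste_vert sYk) inferInstance
  have : QuasiSeparated (f₂ ≫ g₂) :=
    MorphismProperty.of_isPullback (sXk.paste_vert sYk) inferInstance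
  obtain ⟨l, χ, Xl, vl, pXl, rXl, sXl, rXs, hrp, L₀, hL₀, ⟨e⟩⟩ := exists_stage_invertible_bc
    (fgSchemes A) (fgCone A) (isLimitFgCone A) (f₂ ≫ g₂) rX₂ (f ≫ g) (rsX₂.paste_vert rsY₂) hL
  let gl := pullback.snd g₂ ((fgSchemes A).map χ)
  have sYl : IsPullback (pullback.fst g₂ ((fgSchemes A).map χ)) gl g₂ ((fgSchemes A).map χ) :=
    IsPullback.of_hasPullback _ _
  let fl : Xl ⟶ pullback g₂ ((fgSchemes A).map χ) :=
    sYl.lift (pXl ≫ f₂) vl (by rw [Category.assoc]; exact sXl.w)
  have hfl : fl ≫ gl = vl := sYl.lift_snd _ _ _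
  have sX2 : IsPullback pXl fl f₂ (pullback.fst g₂ ((fgSchemes A).map χ)) :=
    IsPullback.of_bot (by rw [hfl]; exact sXl) (sYl.lift_fst _ _ _).symm sYl
  have hπl : (fgCone A).π.app l ≫ (fgSchemes A).map χ = (fgCone A).π.app k := (fgCone A).w χ
  let rYl : Y ⟶ pullback g₂ ((fgSchemes A).map χ) :=
    sYl.lift rY₂ (g ≫ (fgCone A).π.app l) (by rw [Category.assoc, hπl]; exact rsY₂.w)
  have hrY : IsPullback rYl g gl ((fgCone A).π.app l) :=
    IsPullback.of_right (by rw [sYl.lift_fst, hπl]; exact rsY₂) (sYl.lift_snd _ _ _) sYl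
  have hrX : IsPullback rXl f fl rYl := by
    refine IsPullback.of_right ?_ ?_ sX2
    · rw [hrp, sYl.lift_fst]; exact rsX₂
    · apply sYl.hom_ext
      · rw [Category.assoc, sYl.lift_fst, Category.assoc, sYl.lift_fst, reassoc_of% hrp, rsX₂.w]
      · rw [Category.assoc, hfl, rXs.w, Category.assoc, Category.assoc, sYl.lift_snd]
  have : LocallyOfFinitePresentation gl := MorphismProperty.of_isPullback sYl inferInstance
  have : QuasiCompact gl := MorphismProperty.of_isPullback sYl inferInstance
  have : LocallyOfFinitePresentation (fl ≫ gl) :=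
    MorphismProperty.of_isPullback (sX2.paste_vert sYl) inferInstance
  have : QuasiCompact (fl ≫ gl) :=
    MorphismProperty.of_isPullback (sX2.paste_vert sYl) inferInstance
  exact ⟨{ S₀ := _, h := (fgCone A).π.app l, X₀ := _, Y₀ := _, f₀ := fl, g₀ := gl,
           qX := rXl, qY := rYl, hX := hrX, hY := hrY }, L₀,
    MorphismProperty.of_isPullback sX2 hk, hL₀, ⟨e⟩⟩

/-- For a proper morphism the ampleness locus is locally constructible. -/
theorem isLocallyConstructible_locus (f : X ⟶ Y) (g : Y ⟶ S)
    [LocallyOfFinitePresentation g] [QuasiCompact g] [QuasiSeparated g]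
    [LocallyOfFinitePresentation (f ≫ g)] [QuasiCompact (f ≫ g)] [QuasiSeparated (f ≫ g)]
    [IsProper f] {L : X.Modules} (hL : PicF.IsInvertible L) :
    IsLocallyConstructible (locus f g L) := by
  refine isLocallyConstructible_of_affines fun V hV ↦ ?_
  rw [preimage_ι_eq hV, ← locus_preimage
    (IsPullback.of_hasPullback f (pullback.fst g (affineToBase hV)))
    (IsPullback.of_hasPullback g (affineToBase hV)) hL]
  obtain ⟨h1, h2, h3⟩ := fp_baseChange_comp f g (affineToBase hV)
  obtain ⟨M, L₀, hp, hL₀, ⟨e⟩⟩ := exists_model_proper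
    (pullback.snd f (pullback.fst g (affineToBase hV))) (pullback.snd g (affineToBase hV))
    (Groth.PicAux.isInvertible_pullback (pullback.fst f (pullback.fst g (affineToBase hV))) hL)
  have := M.noetherian; have := M.lftg; have := M.qcg
  rw [← locus_congr _ _ e, locus_preimage M.hX M.hY hL₀]
  exact (affineIso hV).hom.isConstructible_preimage
    (M.h.isConstructible_preimage (isConstructible_locus_of_isProper M.f₀ M.g₀ hL₀))

end Groth.ConsAmple
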