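import Groth.Agent.ConsAmple.Locus
import Groth.Agent.RefRank.Norm.FinLocFree
import Groth.Agent.Ega2Proj.NormModule
import Groth.Agent.SpectralTopology.SpreadProper

/-!
The set of points of the base over which a morphism is quasi-projective on the fibres
(EGA IV 9.6.3): descent of the existence of a relatively ample module along extensions of the base
field, spreading out from the generic point, ind-constructibility.
-/

set_option autoImplicit false
set_option backward.isDefEq.respectTransparency false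
set_option backward.isDefEq.respectTransparency.types false
set_option linter.style.haveILetI false

open AlgebraicGeometry CategoryTheory CategoryTheory.Limits Topology

universe u

namespace Groth.ConsAmple

open Groth.SpectralTopology Groth.Ega2Proj

variable {X Y S X' Y' S' : Scheme.{u}}

section Stage

variable {I : Type u} [Category.{u} I] [IsCofiltered I] (D : I ⥤ Scheme.{u}) (c : Cone D)
  (hc : IsLimit c) [∀ (i j : I) (f : i ⟶ j), IsAffineHom (D.map f)] [∀ i, CompactSpace (D.obj i)]
  [∀ i, QuasiSeparatedSpace (D.obj i)]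

include hc in
/-- An invertible module on the base change to the limit of a scheme over a stage comes from a
later stage. -/
theorem exists_stage_invertible_bc {i : I} {X₀ : Scheme.{u}} (v₀ : X₀ ⟶ D.obj i) [QuasiCompact v₀]
    [QuasiSeparated v₀] {X : Scheme.{u}} (qX : X ⟶ X₀) (v : X ⟶ c.pt)
    (sq : IsPullback qX v v₀ (c.π.app i)) {L : X.Modules} (hL : PicF.IsInvertible L) :
    ∃ (j : I) (φ : j ⟶ i) (Xj : Scheme.{u}) (vj : Xj ⟶ D.obj j) (pX : Xj ⟶ X₀) (rX : X ⟶ Xj),
      IsPullback pX vj v₀ (D.map φ) ∧ IsPullback rX v vj (c.π.app j) ∧ rX ≫ pX = qX ∧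
        ∃ L₀ : Xj.Modules, PicF.IsInvertible L₀ ∧
          Nonempty ((Scheme.Modules.pullback rX).obj L₀ ≅ L) := by
  let D' := Groth.Limits.pullbackDiagram D i v₀
  let c' := Groth.Limits.pullbackCone D i v₀ c
  have : ∀ k : Over i, CompactSpace (D'.obj k) := fun k ↦
    QuasiCompact.compactSpace_of_compactSpace (pullback.fst (D.map k.hom) v₀)
  have : ∀ k : Over i, QuasiSeparatedSpace (D'.obj k) := fun k ↦
    quasiSeparatedSpace_of_quasiSeparated (pullback.fst (D.map k.hom) v₀)
  let e : X ≅ c'.pt := sq.flip.isoPullback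
  obtain ⟨k, -, L₀, hL₀, ⟨α⟩⟩ := Groth.PicAux.LimitInv.exists_stage_invertible (D := D') (c := c')
    (Groth.Limits.isLimitPullbackCone D i v₀ hc) (Over.mk (𝟙 i))
    (Groth.PicAux.isInvertible_pullback e.inv hL)
  have h1 : (e.hom ≫ c'.π.app k) ≫ pullback.fst (D.map k.hom) v₀ = v ≫ c.π.app k.left := by
    refine (Category.assoc _ _ _).trans ?_
    refine (congrArg (e.hom ≫ ·) (pullback.lift_fst _ _ _)).trans ?_
    refine (Category.assoc _ _ _).symm.trans ?_
    exact congrArg (· ≫ c.π.app k.left) sq.flip.isoPullback_hom_fst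
  have h2 : (e.hom ≫ c'.π.app k) ≫ pullback.snd (D.map k.hom) v₀ = qX := by
    refine (Category.assoc _ _ _).trans ?_
    refine (congrArg (e.hom ≫ ·) (pullback.lift_snd _ _ _)).trans ?_
    exact (congrArg (e.hom ≫ ·) (Category.comp_id _)).trans sq.flip.isoPullback_hom_snd
  have sk : IsPullback (pullback.snd (D.map k.hom) v₀) (pullback.fst (D.map k.hom) v₀) v₀
      (D.map k.hom) := (IsPullback.of_hasPullback _ _).flip
  refine ⟨k.left, k.hom, _, pullback.fst (D.map k.hom) v₀, pullback.snd (D.map k.hom) v₀,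
    e.hom ≫ c'.π.app k, sk, IsPullback.of_right (by rw [h2, c.w]; exact sq) h1 sk, h2, L₀, hL₀,
    ⟨?_⟩⟩
  exact ((Scheme.Modules.pullbackComp e.hom (c'.π.app k)).app L₀).symm ≪≫
    (Scheme.Modules.pullback e.hom).mapIso α ≪≫ (Scheme.Modules.pullbackComp _ _).app L ≪≫
    (Scheme.Modules.pullbackCongr e.hom_inv_id).app L ≪≫ (Scheme.Modules.pullbackId X).app L

end Stage

/-- A relatively ample module on the limit gives one on a stage. -/
theorem exists_stage_isRelAmple {I : Type u} [SmallCategory I] [IsCofiltered I]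
    (D : I ⥤ Scheme.{u}) (c : Cone D) (hc : IsLimit c)
    [∀ (i j : I) (f : i ⟶ j), IsAffineHom (D.map f)] [∀ i, CompactSpace (D.obj i)]
    [∀ i, QuasiSeparatedSpace (D.obj i)] (i₀ : I) {X₀ Y₀ : Scheme.{u}} (f₀ : X₀ ⟶ Y₀)
    (g₀ : Y₀ ⟶ D.obj i₀) [LocallyOfFinitePresentation g₀] [QuasiCompact g₀] [QuasiSeparated g₀]
    [LocallyOfFinitePresentation (f₀ ≫ g₀)] [QuasiCompact (f₀ ≫ g₀)] [QuasiSeparated (f₀ ≫ g₀)]
    (f : X ⟶ Y) (g : Y ⟶ c.pt) (qY : Y ⟶ Y₀) (qX : X ⟶ X₀)
    (hY : IsPullback qY g g₀ (c.π.app i₀)) (hX : IsPullback qX f f₀ qY) {L : X.Modules}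
    (hA : RelAmple.IsRelAmple f L) :
    ∃ (j : I) (φ : j ⟶ i₀) (Xj Yj : Scheme.{u}) (fj : Xj ⟶ Yj) (gj : Yj ⟶ D.obj j) (pY : Yj ⟶ Y₀)
      (pX : Xj ⟶ X₀), IsPullback pY gj g₀ (D.map φ) ∧ IsPullback pX fj f₀ pY ∧
        ∃ M : Xj.Modules, RelAmple.IsRelAmple fj M := by
  obtain ⟨j, φ, Xj, vj, pX, rX, sXj, rXs, hrp, L₀, hL₀, ⟨e⟩⟩ := exists_stage_invertible_bc D c hc
    (f₀ ≫ g₀) qX (f ≫ g) (hX.paste_vert hY) (Groth.Ega2Proj.isInvertible_of_isRelAmple hA)
  let gj := pullback.snd g₀ (D.map φ)
  let pY := pullback.fst g₀ (D.map φ)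
  have sYj : IsPullback pY gj g₀ (D.map φ) := IsPullback.of_hasPullback _ _
  let fj : Xj ⟶ pullback g₀ (D.map φ) :=
    sYj.lift (pX ≫ f₀) vj (by rw [Category.assoc]; exact sXj.w)
  have hfj : fj ≫ gj = vj := sYj.lift_snd _ _ _
  have sX2 : IsPullback pX fj f₀ pY :=
    IsPullback.of_bot (by rw [hfj]; exact sXj) (sYj.lift_fst _ _ _).symm sYj
  let rY : Y ⟶ pullback g₀ (D.map φ) :=
    sYj.lift qY (g ≫ c.π.app j) (by rw [Category.assoc, c.w]; exact hY.w)
  have hrY : IsPullback rY g gj (c.π.app j) :=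
    IsPullback.of_right (by rw [sYj.lift_fst, c.w]; exact hY) (sYj.lift_snd _ _ _) sYj
  have hrX : IsPullback rX f fj rY := by
    refine IsPullback.of_right ?_ ?_ sX2
    · rw [hrp, sYj.lift_fst]; exact hX
    · apply sYj.hom_ext
      · rw [Category.assoc, sYj.lift_fst, Category.assoc, sYj.lift_fst, reassoc_of% hrp, hX.w]
      · rw [Category.assoc, hfj, rXs.w, Category.assoc, Category.assoc, sYj.lift_snd]
  have : LocallyOfFinitePresentation gj := MorphismProperty.of_isPullback sYj inferInstance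
  have : QuasiCompact gj := MorphismProperty.of_isPullback sYj inferInstance
  have : QuasiSeparated gj := MorphismProperty.of_isPullback sYj inferInstance
  have : LocallyOfFinitePresentation (fj ≫ gj) := by
    rw [hfj]; exact MorphismProperty.of_isPullback sXj inferInstance
  have : QuasiCompact (fj ≫ gj) := by
    rw [hfj]; exact MorphismProperty.of_isPullback sXj inferInstance
  have : QuasiSeparated (fj ≫ gj) := by
    rw [hfj]; exact MorphismProperty.of_isPullback sXj inferInstance
  obtain ⟨k, ψ, Xk, Yk, fk, gk, pYk, pXk, sYk, sXk, hk⟩ :=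
    (Groth.Agent.S4846.result D c hc j fj gj L₀ hL₀ f g rY rX hrY hrX).1
      (isRelAmple_of_iso e.symm hA)
  exact ⟨k, ψ ≫ φ, Xk, Yk, fk, gk, pYk ≫ pY, pXk ≫ pX,
    by rw [D.map_comp]; exact sYk.paste_horiz sYj, sXk.paste_horiz sX2, _, hk⟩

/-- Composition with an affine morphism keeps relative ampleness. -/
theorem isRelAmple_comp_of_isAffineHom {Z : Scheme.{u}} {f : X ⟶ Y} {L : X.Modules}
    (hL : RelAmple.IsRelAmple f L) (π : Y ⟶ Z) [IsAffineHom π] :
    RelAmple.IsRelAmple (f ≫ π) L := by
  have : QuasiCompact f := hL.1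
  refine ⟨inferInstance, fun V => ?_⟩
  exact hL.2 ⟨π ⁻¹ᵁ V.1, V.2.preimage π⟩

/-- The existence of a relatively ample module descends along finite extensions of the base
field. -/
theorem exists_isRelAmple_of_finite {k l : Type u} [Field k] [Field l] [Algebra k l]
    [Module.Finite k l] (f : X ⟶ Y) [QuasiCompact f] (v : Y ⟶ Spec (CommRingCat.of k)) {f' : X' ⟶ Y'}
    {qX : X' ⟶ X} {qY : Y' ⟶ Y} {v' : Y' ⟶ Spec (CommRingCat.of l)} (hX : IsPullback qX f' f qY)
    (hY : IsPullback qY v' v (Spec.map (CommRingCat.ofHom (algebraMap k l)))) {L : X'.Modules}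
    (hL : RelAmple.IsRelAmple f' L) :
    ∃ N : X.Modules, RelAmple.IsRelAmple f N := by
  let hl : Spec (CommRingCat.of l) ⟶ Spec (CommRingCat.of k) :=
    Spec.map (CommRingCat.ofHom (algebraMap k l))
  haveI : IsFinite hl := (IsFinite.SpecMap_iff _).2 (RingHom.finite_algebraMap.2 inferInstance)
  haveI : Flat hl := Flat.SpecMap_iff.2 (RingHom.flat_algebraMap_iff.2 inferInstance)
  haveI : LocallyOfFinitePresentation hl := inferInstance
  haveI : Surjective hl := surjective_of_point (T := Spec (CommRingCat.of k)) hl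
  haveI : IsFinite qY := MorphismProperty.of_isPullback hY.flip ‹IsFinite hl›
  have hXY := hX.paste_vert hY
  haveI : IsFinite qX := MorphismProperty.of_isPullback hXY.flip ‹IsFinite hl›
  haveI : Flat qX := MorphismProperty.of_isPullback hXY.flip ‹Flat hl›
  haveI : LocallyOfFinitePresentation qX :=
    MorphismProperty.of_isPullback hXY.flip ‹LocallyOfFinitePresentation hl›
  haveI : Surjective qX := MorphismProperty.of_isPullback hXY.flip ‹Surjective hl›
  have hL' := isRelAmple_comp_of_isAffineHom hL qY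
  rw [← hX.w] at hL'
  obtain ⟨N, -, hN⟩ := Groth.Ega2Proj.NormMod.exists_isRelAmple_of_finite qX f
    (Groth.RefRank.push_isFinLocFree qX) hL'
  exact ⟨N, hN⟩

/-- The existence of a relatively ample module descends along extensions of the base field. -/
theorem exists_isRelAmple_of_field {k K : CommRingCat.{u}} (hk : IsField k) (hK : IsField K)
    (φ : k ⟶ K) (f : X ⟶ Y) (v : Y ⟶ Spec k) [LocallyOfFiniteType v] [QuasiCompact v]
    [LocallyOfFiniteType (f ≫ v)] [QuasiCompact (f ≫ v)] {f' : X' ⟶ Y'} {qX : X' ⟶ X}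
    {qY : Y' ⟶ Y} {v' : Y' ⟶ Spec K} (hX : IsPullback qX f' f qY)
    (hY : IsPullback qY v' v (Spec.map φ)) {L : X'.Modules}
    (hL : RelAmple.IsRelAmple f' L) :
    ∃ N : X.Modules, RelAmple.IsRelAmple f N := by
  letI : Field k := hk.toField
  letI : Field K := hK.toField
  letI : Algebra k K := φ.hom.toAlgebra
  haveI : IsNoetherianRing k := inferInstance
  let D := algSchemes k K
  let c := algCone k K
  let t : ∀ s, D.obj s ⟶ Spec k := fun s ↦ algToBase k K s
  have ht (s) : c.π.app s ≫ t s = Spec.map φ := algCone_π_toBase k K s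
  let s₀ : (AlgSub k K)ᵒᵖ := Opposite.op ⟨⊥, Subalgebra.fg_bot⟩
  let g₀ := pullback.snd v (t s₀)
  let f₀ := pullback.snd f (pullback.fst v (t s₀))
  have sY₀ := IsPullback.of_hasPullback v (t s₀)
  have sX₀ := IsPullback.of_hasPullback f (pullback.fst v (t s₀))
  let rY : Y' ⟶ pullback v (t s₀) :=
    pullback.lift qY (v' ≫ c.π.app s₀) (by rw [Category.assoc, ht]; exact hY.w)
  have hY' : IsPullback rY v' g₀ (c.π.app s₀) := by
    refine IsPullback.of_right ?_ (pullback.lift_snd _ _ _) sY₀
    rw [pullback.lift_fst, ht]; exact hY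
  let rX : X' ⟶ pullback f (pullback.fst v (t s₀)) :=
    pullback.lift qX (f' ≫ rY) (by rw [Category.assoc, pullback.lift_fst]; exact hX.w)
  have hX' : IsPullback rX f' f₀ rY := by
    refine IsPullback.of_right ?_ (pullback.lift_snd _ _ _) sX₀
    rw [pullback.lift_fst, pullback.lift_fst]; exact hX
  have : LocallyOfFiniteType f := locallyOfFiniteType_of_comp f v
  have : IsLocallyNoetherian Y := LocallyOfFiniteType.isLocallyNoetherian v
  have : CompactSpace Y := QuasiCompact.compactSpace_of_compactSpace v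
  have : CompactSpace X := QuasiCompact.compactSpace_of_compactSpace (f ≫ v)
  have : IsLocallyNoetherian X := LocallyOfFiniteType.isLocallyNoetherian f
  have : QuasiCompact f := quasiCompact_of_compactSpace f
  have : QuasiSeparated f := quasiSeparated_of_quasiSeparatedSpace f
  have : QuasiSeparated v := quasiSeparated_of_quasiSeparatedSpace v
  have : ∀ s, CompactSpace (D.obj s) := fun s => inferInstanceAs (CompactSpace (Spec _ : Scheme))
  have : ∀ s, QuasiSeparatedSpace (D.obj s) := fun s =>
    inferInstanceAs (QuasiSeparatedSpace (Spec _ : Scheme))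
  obtain ⟨j, ψ, Xj, Yj, fj, gj, pY, pX, sYj, sXj, M, hM⟩ := exists_stage_isRelAmple D c
    (isLimitAlgCone k K) s₀ f₀ g₀ f' v' rY rX hY' hX' hL
  -- a closed point of the stage
  let A := j.unop.1
  haveI : Algebra.FiniteType k A := A.fg_iff_finiteType.1 j.unop.2
  obtain ⟨m, hm⟩ := Ideal.exists_maximal A
  let l := A ⧸ m
  letI : Field l := Ideal.Quotient.field m
  haveI : Algebra.FiniteType k l :=
    Algebra.FiniteType.of_surjective (Ideal.Quotient.mkₐ k m) Ideal.Quotient.mk_surjective
  haveI : Module.Finite k l := finite_of_finite_type_of_isJacobsonRing k l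
  let gl : Spec (CommRingCat.of l) ⟶ D.obj j :=
    Spec.map (CommRingCat.ofHom (Ideal.Quotient.mk m : A →+* l))
  have hgl : gl ≫ t j = Spec.map (CommRingCat.ofHom (algebraMap k l)) := (Spec.map_comp _ _).symm
  have htj : D.map ψ ≫ t s₀ = t j := algSchemes_map_toBase k K ψ
  have sYl := IsPullback.of_hasPullback gj gl
  have sXl := IsPullback.of_hasPullback fj (pullback.fst gj gl)
  refine exists_isRelAmple_of_finite (k := k) (l := l) f v
    (qX := pullback.fst fj (pullback.fst gj gl) ≫ pX ≫ pullback.fst f (pullback.fst v (t s₀)))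
    (qY := pullback.fst gj gl ≫ pY ≫ pullback.fst v (t s₀))
    (sXl.paste_horiz (sXj.paste_horiz sX₀)) (v' := pullback.snd gj gl) ?_
    (isRelAmple_of_isPullback sXl hM)
  rw [← hgl, ← htj]
  exact sYl.paste_horiz (sYj.paste_horiz sY₀)

/-- The points of the base over which the morphism of fibres has a relatively ample module. -/
def qpLocus (f : X ⟶ Y) (g : Y ⟶ S) : Set S :=
  {s | ∃ L : ((f ≫ g).fiber s).Modules, RelAmple.IsRelAmple (MoreMor.fiberMap f g s) L}

/-- The quasi-projective locus commutes with base change. -/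
theorem qpLocus_preimage {f : X ⟶ Y} {g : Y ⟶ S} {f' : X' ⟶ Y'} {g' : Y' ⟶ S'} {h : S' ⟶ S}
    {qX : X' ⟶ X} {qY : Y' ⟶ Y} [LocallyOfFiniteType g] [QuasiCompact g]
    [LocallyOfFiniteType (f ≫ g)] [QuasiCompact (f ≫ g)]
    (hX : IsPullback qX f' f qY) (hY : IsPullback qY g' g h) :
    qpLocus f' g' = h ⁻¹' qpLocus f g := by
  ext s'
  have sqXY := hX.paste_vert hY
  have hw : fiberBC sqXY s' ≫ MoreMor.fiberMap f g (h s') =
      MoreMor.fiberMap f' g' s' ≫ fiberBC hY s' := by
    apply (isPullback_fiber g (h s')).hom_ext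
    · rw [Category.assoc, fiberMap_fiberι, reassoc_of% (fiberBC_ι sqXY s'), hX.w, Category.assoc,
        fiberBC_ι hY s', reassoc_of% (fiberMap_fiberι f' g' s')]
    · rw [Category.assoc, fiberMap_toSpec, (isPullback_fiberBC sqXY s').w, Category.assoc,
        (isPullback_fiberBC hY s').w, reassoc_of% (fiberMap_toSpec f' g' s')]
  have sqX : IsPullback (fiberBC sqXY s') (MoreMor.fiberMap f' g' s')
      (MoreMor.fiberMap f g (h s')) (fiberBC hY s') := by
    refine IsPullback.of_bot ?_ hw (isPullback_fiberBC hY s')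
    rw [fiberMap_toSpec, fiberMap_toSpec]
    exact isPullback_fiberBC sqXY s'
  exact ⟨fun ⟨L, hL⟩ => exists_isRelAmple_of_field (Field.toIsField _) (Field.toIsField _)
      (h.residueFieldMap s') (MoreMor.fiberMap f g (h s')) (g.fiberToSpecResidueField (h s'))
      sqX (isPullback_fiberBC hY s') hL,
    fun ⟨L, hL⟩ => ⟨_, isRelAmple_of_isPullback sqX hL⟩⟩

/-- Quasi-projectivity of the generic fibre spreads out. -/
theorem interior_qpLocus_nonempty [IsIntegral S] [AlgebraicGeometry.IsNoetherian S] (f : X ⟶ Y)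
    (g : Y ⟶ S) [LocallyOfFiniteType g] [QuasiCompact g] [LocallyOfFiniteType (f ≫ g)]
    [QuasiCompact (f ≫ g)] (hgen : genericPoint S ∈ qpLocus f g) :
    (interior (qpLocus f g)).Nonempty := by
  let η := genericPoint S
  let m := S.fromSpecResidueField η
  obtain ⟨_, ⟨V, hV, rfl⟩, hηV, -⟩ := S.isBasis_affineOpens.exists_subset_of_mem_open
    (Set.mem_univ η) isOpen_univ
  have hm : Set.range m ⊆ Set.range hV.fromSpec := by
    rw [hV.range_fromSpec, Scheme.range_fromSpecResidueField, Set.singleton_subset_iff]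
    exact hηV
  let R : CommRingCat.{u} := Γ(S, V)
  let K : CommRingCat.{u} := S.residueField η
  obtain ⟨ψ, hψ⟩ := Spec.map_surjective (IsOpenImmersion.lift hV.fromSpec m hm)
  letI : Algebra R K := ψ.hom.toAlgebra
  have : IsNoetherianRing R := IsLocallyNoetherian.component_noetherian ⟨V, hV⟩
  let D := algSchemes R K
  let c := algCone R K
  let t : ∀ s, D.obj s ⟶ S := fun s ↦ algToBase R K s ≫ hV.fromSpec
  have ht (s) : c.π.app s ≫ t s = m := by
    rw [← Category.assoc, algCone_π_toBase]
    have : Spec.map (CommRingCat.ofHom (algebraMap R K)) = Spec.map ψ := rfl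
    rw [this, hψ, IsOpenImmersion.lift_fac]
  let s₀ : (AlgSub R K)ᵒᵖ := Opposite.op ⟨⊥, Subalgebra.fg_bot⟩
  have : QuasiCompact (t s₀) := quasiCompact_of_compactSpace _
  let g₀ := pullback.snd g (t s₀)
  let f₀ := pullback.snd f (pullback.fst g (t s₀))
  have sY₀ := IsPullback.of_hasPullback g (t s₀)
  have sX₀ := IsPullback.of_hasPullback f (pullback.fst g (t s₀))
  have sη := isPullback_fiber g η
  let qY : g.fiber η ⟶ pullback g (t s₀) :=
    pullback.lift (g.fiberι η) (g.fiberToSpecResidueField η ≫ c.π.app s₀)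
      (by rw [Category.assoc, ht]; exact sη.w)
  have hY : IsPullback qY (g.fiberToSpecResidueField η) g₀ (c.π.app s₀) := by
    refine IsPullback.of_right ?_ (pullback.lift_snd _ _ _) sY₀
    rw [pullback.lift_fst, ht]; exact sη
  have sηX := isPullback_fiberMap f g η
  let qX : (f ≫ g).fiber η ⟶ pullback f (pullback.fst g (t s₀)) :=
    pullback.lift ((f ≫ g).fiberι η) (MoreMor.fiberMap f g η ≫ qY)
      (by rw [Category.assoc, pullback.lift_fst]; exact sηX.w)
  have hX : IsPullback qX (MoreMor.fiberMap f g η) f₀ qY := by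
    refine IsPullback.of_right ?_ (pullback.lift_snd _ _ _) sX₀
    rw [pullback.lift_fst, pullback.lift_fst]; exact sηX
  have : LocallyOfFiniteType f := locallyOfFiniteType_of_comp f g
  have : IsLocallyNoetherian Y := LocallyOfFiniteType.isLocallyNoetherian g
  have : CompactSpace Y := QuasiCompact.compactSpace_of_compactSpace g
  have : CompactSpace X := QuasiCompact.compactSpace_of_compactSpace (f ≫ g)
  have : IsLocallyNoetherian X := LocallyOfFiniteType.isLocallyNoetherian f
  have : QuasiCompact f := quasiCompact_of_compactSpace f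
  have : QuasiSeparated f := quasiSeparated_of_quasiSeparatedSpace f
  have : QuasiSeparated g := quasiSeparated_of_quasiSeparatedSpace g
  have : ∀ s, CompactSpace (D.obj s) := fun s => inferInstanceAs (CompactSpace (Spec _ : Scheme))
  have : ∀ s, QuasiSeparatedSpace (D.obj s) := fun s =>
    inferInstanceAs (QuasiSeparatedSpace (Spec _ : Scheme))
  obtain ⟨L, hL⟩ := hgen
  obtain ⟨k, φ, Xk, Yk, fk, gk, pY, pX, sYk, sXk, M, hM⟩ := exists_stage_isRelAmple D c
    (isLimitAlgCone R K) s₀ f₀ g₀ _ _ qY qX hY hX hL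
  have htk : D.map φ ≫ t s₀ = t k :=
    (Category.assoc _ _ _).symm.trans (congrArg (· ≫ hV.fromSpec) (algSchemes_map_toBase R K φ))
  have syk : IsPullback (pY ≫ pullback.fst g (t s₀)) gk g (t k) := by
    rw [← htk]; exact sYk.paste_horiz sY₀
  have sxk : IsPullback (pX ≫ pullback.fst f (pullback.fst g (t s₀))) fk f
      (pY ≫ pullback.fst g (t s₀)) := sXk.paste_horiz sX₀
  have hsub : Set.range (t k) ⊆ qpLocus f g := by
    rintro _ ⟨b, rfl⟩
    exact (qpLocus_preimage sxk syk).subset ⟨_, isRelAmple_of_isPullback (isPullback_fiberMap fk gk b) hM⟩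
  have : QuasiCompact (t k) := quasiCompact_of_compactSpace _
  have hlfp : LocallyOfFinitePresentation (t k) := inferInstance
  have hC : IsConstructible (Set.range (t k)) := by
    rw [← Set.image_univ]; exact (t k).isConstructible_image IsConstructible.univ
  have hη : η ∈ Set.range (t k) := by
    obtain ⟨x⟩ := (inferInstance : Nonempty (Spec K))
    refine ⟨c.π.app k x, ?_⟩
    rw [← Scheme.Hom.comp_apply, ht]
    exact Set.mem_singleton_iff.1 ((Scheme.range_fromSpecResidueField η).subset ⟨x, rfl⟩)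
  exact ⟨_, interior_mono hsub (genericPoint_mem_interior hC hη)⟩

/-- Ind-constructibility over a Noetherian base. -/
theorem exists_constructible_qpLocus [AlgebraicGeometry.IsNoetherian S] (f : X ⟶ Y) (g : Y ⟶ S)
    [LocallyOfFiniteType g] [QuasiCompact g] [LocallyOfFiniteType (f ≫ g)]
    [QuasiCompact (f ≫ g)] {s : S} (hs : s ∈ qpLocus f g) :
    ∃ C : Set S, IsConstructible C ∧ s ∈ C ∧ C ⊆ qpLocus f g := by
  refine exists_constructible_of_forall_integral (fun Z i _ _ _ hg ↦ ?_) hs
  have sY := IsPullback.of_hasPullback g i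
  have sX := IsPullback.of_hasPullback f (pullback.fst g i)
  have sXY := sX.paste_vert sY
  have : LocallyOfFiniteType (pullback.snd f (pullback.fst g i) ≫ pullback.snd g i) :=
    MorphismProperty.of_isPullback sXY inferInstance
  have : QuasiCompact (pullback.snd f (pullback.fst g i) ≫ pullback.snd g i) :=
    MorphismProperty.of_isPullback sXY inferInstance
  rw [← qpLocus_preimage sX sY]
  refine interior_qpLocus_nonempty _ _ ?_
  rw [qpLocus_preimage sX sY]
  exact hg

/-- The quasi-projective locus is ind-constructible. -/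
theorem isIndConstructible_qpLocus (f : X ⟶ Y) (g : Y ⟶ S)
    [LocallyOfFinitePresentation g] [QuasiCompact g] [QuasiSeparated g]
    [LocallyOfFinitePresentation (f ≫ g)] [QuasiCompact (f ≫ g)] [QuasiSeparated (f ≫ g)] :
    ProCons.IsIndConstructible (qpLocus f g) := by
  refine isIndConstructible_of_affines fun V hV x hx ↦ ?_
  rw [preimage_ι_eq hV, ← qpLocus_preimage
    (IsPullback.of_hasPullback f (pullback.fst g (affineToBase hV)))
    (IsPullback.of_hasPullback g (affineToBase hV))] at hx ⊢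
  obtain ⟨h1, h2, h3⟩ := fp_baseChange_comp f g (affineToBase hV)
  obtain ⟨M⟩ := nonempty_morModel_fgCone (canDescend _)
    (pullback.snd f (pullback.fst g (affineToBase hV))) (pullback.snd g (affineToBase hV))
  have := M.noetherian; have := M.lftg; have := M.qcg; have := M.lftfg; have := M.qcfg
  rw [qpLocus_preimage M.hX M.hY] at hx ⊢
  obtain ⟨C, hC, hxC, hCE⟩ := exists_constructible_qpLocus M.f₀ M.g₀ hx
  exact ⟨_, (affineIso hV).hom.isConstructible_preimage (M.h.isConstructible_preimage hC), hxC,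
    Set.preimage_mono (Set.preimage_mono hCE)⟩

/-- The locus where the morphism of fibres is quasi-projective and proper. -/
theorem isIndConstructible_qpLocus_inter_proper (f : X ⟶ Y) (g : Y ⟶ S)
    [LocallyOfFinitePresentation g] [QuasiCompact g] [QuasiSeparated g]
    [LocallyOfFinitePresentation (f ≫ g)] [QuasiCompact (f ≫ g)] [QuasiSeparated (f ≫ g)] :
    ProCons.IsIndConstructible (qpLocus f g ∩ ConsProp.locusMor (asMor @IsProper) f g) := by
  have hP : ConsProp.IsIndConsMor (asMor.{u} @IsProper) := isIndConsMor_of_spreads spreads_isProper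
  refine isIndConstructible_of_affines fun V hV x hx ↦ ?_
  rw [preimage_ι_eq hV, Set.preimage_inter, Set.preimage_inter, ← qpLocus_preimage
    (IsPullback.of_hasPullback f (pullback.fst g (affineToBase hV)))
    (IsPullback.of_hasPullback g (affineToBase hV)), ← locusMor_preimage hP.1
    (IsPullback.of_hasPullback f (pullback.fst g (affineToBase hV)))
    (IsPullback.of_hasPullback g (affineToBase hV))] at hx ⊢
  obtain ⟨h1, h2, h3⟩ := fp_baseChange_comp f g (affineToBase hV)
  obtain ⟨M⟩ := nonempty_morModel_fgCone (canDescend _)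
    (pullback.snd f (pullback.fst g (affineToBase hV))) (pullback.snd g (affineToBase hV))
  have := M.noetherian; have := M.lftg; have := M.qcg; have := M.lftfg; have := M.qcfg
  obtain ⟨hx₁, hx₂⟩ := hx
  obtain ⟨C', hC', hxC', hCE'⟩ := exists_constructible_locusMor_of_model hP M hx₂
  rw [qpLocus_preimage M.hX M.hY] at hx₁ ⊢
  obtain ⟨C, hC, hxC, hCE⟩ := exists_constructible_qpLocus M.f₀ M.g₀ hx₁
  exact ⟨_, (affineIso hV).hom.isConstructible_preimage ((M.h.isConstructible_preimage hC).inter hC'),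
    ⟨hxC, hxC'⟩, fun y hy => ⟨hCE hy.1, hCE' hy.2⟩⟩

end Groth.ConsAmple
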